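import Cfsg.Agent.Lib.Fusion.InnerReduction
import Cfsg.Agent.Lib.SZ.Card
import Cfsg.Agent.Lib.PrimitiveDegree.Metanilpotent

/-!
Elementary tools for the inner criterion by weakly embedded subgroups of one order.
-/

set_option autoImplicit false
set_option linter.style.haveILetI false

namespace Cfsg.Agent.Lib.WeakEmbedding

open Cfsg Cfsg.FusionSystem Cfsg.Agent.Lib.Fusion

universe u

variable {Ω : Type u} [Group Ω] {S : Subgroup Ω} {F : FusionSystem S} {p : ℕ}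

/-- Every subgroup of order `d` is weakly embedded. -/
def WEAt (F : FusionSystem S) (d : ℕ) : Prop :=
  ∀ Q : Subgroup Ω, Q ≤ S → Nat.card Q = d →
    ∃ P : Subgroup Ω, F.StronglyClosed P ∧ F.StronglyClosed (Q ⊔ P) ∧ F.StronglyClosed (Q ⊓ P)

/-- The normalizer systems of the fully normalized subgroups of order `d` are inner. -/
def InnerLocalAt (F : FusionSystem S) (d : ℕ) : Prop :=
  ∀ H : Subgroup Ω, F.IsFullyNormalized H → Nat.card H = d → HasInnerNormalizer F H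

/-- A minimal nontrivial strongly closed subgroup. -/
def MinClosed (F : FusionSystem S) (T : Subgroup Ω) : Prop :=
  F.StronglyClosed T ∧ T ≠ ⊥ ∧ ∀ R : Subgroup Ω, F.StronglyClosed R → R ≤ T → R ≠ ⊥ → R = T

theorem stronglyClosed_self (F : FusionSystem S) : F.StronglyClosed S :=
  ⟨le_rfl, fun _ _ _ hφ x => val_mem hφ x⟩

theorem stronglyClosed_inf {A B : Subgroup Ω} (hA : F.StronglyClosed A) (hB : F.StronglyClosed B) :
    F.StronglyClosed (A ⊓ B) :=
  ⟨inf_le_left.trans hA.1, fun R hR φ hφ x =>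
    ⟨hA.2 R (hR.trans inf_le_left) φ hφ x, hB.2 R (hR.trans inf_le_right) φ hφ x⟩⟩

theorem exists_minClosed [Finite S] (F : FusionSystem S) {R : Subgroup Ω} (hR : F.StronglyClosed R)
    (hR1 : R ≠ ⊥) : ∃ T ≤ R, MinClosed F T := by
  have hfin : {A : Subgroup Ω | F.StronglyClosed A ∧ A ≠ ⊥ ∧ A ≤ R}.Finite :=
    (FusionFactor.finite_le S).subset fun A hA => hA.1.1
  obtain ⟨T, ⟨hT, hT1, hTR⟩, hmin⟩ := hfin.exists_minimalFor id _ ⟨R, hR, hR1, le_rfl⟩
  exact ⟨T, hTR, hT, hT1, fun A hA hAT hA1 =>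
    le_antisymm hAT (hmin ⟨hA, hA1, hAT.trans hTR⟩ hAT)⟩

theorem MinClosed.inf_eq {T R : Subgroup Ω} (hT : MinClosed F T) (hR : F.StronglyClosed R) :
    R ⊓ T = ⊥ ∨ T ≤ R := by
  by_cases h : R ⊓ T = ⊥
  · exact Or.inl h
  · exact Or.inr ((hT.2.2 _ (stronglyClosed_inf hR hT.1) inf_le_right h).ge.trans inf_le_left)

/-- `(Q P) ∩ T = Q` for `Q ≤ T` and `P` meeting `T` trivially. -/
theorem sup_inf_eq_of_inf_eq_bot {Q P T : Subgroup Ω} (hP : F.StronglyClosed P) (hQS : Q ≤ S)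
    (hQT : Q ≤ T) (hPT : P ⊓ T = ⊥) : (Q ⊔ P) ⊓ T = Q := by
  refine le_antisymm ?_ (le_inf le_sup_left hQT)
  rintro x ⟨hx, hxT⟩
  obtain ⟨q, hq, r, hr, rfl⟩ := (mem_sup_stronglyClosed hP hQS).1 hx
  have hrT : r ∈ T := by simpa using T.mul_mem (T.inv_mem (hQT hq)) hxT
  rw [show r = 1 from Subgroup.mem_bot.1 (hPT ▸ (⟨hr, hrT⟩ : r ∈ P ⊓ T)), mul_one]
  exact hq

/-- Two strongly closed subgroups meeting trivially commute. -/
theorem commute_of_inf_eq_bot {A B : Subgroup Ω} (hA : F.StronglyClosed A) (hB : F.StronglyClosed B)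
    (h : A ⊓ B = ⊥) {a b : Ω} (ha : a ∈ A) (hb : b ∈ B) : a * b = b * a := by
  have h1 : a * b * a⁻¹ * b⁻¹ ∈ A ⊓ B := by
    refine ⟨?_, B.mul_mem (stronglyClosed_conj hB (hA.1 ha) hb) (B.inv_mem hb)⟩
    have := A.mul_mem ha (stronglyClosed_conj hA (hB.1 hb) (A.inv_mem ha))
    simpa [mul_assoc] using this
  rw [h, Subgroup.mem_bot] at h1
  calc a * b = a * b * a⁻¹ * b⁻¹ * (b * a) := by group
    _ = b * a := by rw [h1, one_mul]

theorem exists_pow_card [Finite S] [Fact p.Prime] (hS : IsPGroup p S) {P : Subgroup Ω} (hP : P ≤ S) :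
    ∃ k, Nat.card P = p ^ k := by
  haveI := finite_of_le hP
  exact (hS.to_le hP).exists_card_eq

/-- Subgroups of every intermediate order. -/
theorem exists_card_between [Finite S] [Fact p.Prime] (hS : IsPGroup p S) {A B : Subgroup Ω}
    (hAB : A ≤ B) (hBS : B ≤ S) {k : ℕ} (h1 : Nat.card A ≤ p ^ k) (h2 : p ^ k ≤ Nat.card B) :
    ∃ Q : Subgroup Ω, A ≤ Q ∧ Q ≤ B ∧ Nat.card Q = p ^ k := by
  haveI := finite_of_le hBS
  obtain ⟨a, ha⟩ := exists_pow_card hS (hAB.trans hBS)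
  obtain ⟨b, hb⟩ := exists_pow_card hS hBS
  have hp := (Fact.out : p.Prime).one_lt
  rw [ha, Nat.pow_le_pow_iff_right hp] at h1
  rw [hb, Nat.pow_le_pow_iff_right hp] at h2
  obtain ⟨K, hK, hAK⟩ := Sylow.exists_subgroup_card_pow_prime_le p (m := k)
    (hb ▸ pow_dvd_pow p h2) (A.subgroupOf B)
    ((Nat.card_congr (Subgroup.subgroupOfEquivOfLe hAB).toEquiv).trans ha) h1
  refine ⟨K.map B.subtype, fun x hx => ⟨⟨x, hAB hx⟩, hAK hx, rfl⟩, Subgroup.map_subtype_le K, ?_⟩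
  rw [← hK]
  exact Nat.card_congr (Subgroup.equivMapOfInjective K B.subtype B.subtype_injective).toEquiv.symm

/-- The product formula inside `S`. -/
theorem card_sup_mul {A N : Subgroup Ω} [Finite S] (hA : A ≤ S) (hN : N ≤ S)
    (hn : S ≤ Subgroup.normalizer (N : Set Ω)) :
    Nat.card ↥(A ⊔ N) * Nat.card ↥(A ⊓ N) = Nat.card A * Nat.card N := by
  haveI : (N.subgroupOf S).Normal := ⟨fun x hx g =>
    ((Subgroup.mem_normalizer_iff.mp (hn g.2)) x).mp hx⟩
  have h := SZ.card_sup_mul_card_inf (A.subgroupOf S) (N.subgroupOf S)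
  rw [← Subgroup.subgroupOf_sup hA hN,
    show A.subgroupOf S ⊓ N.subgroupOf S = (A ⊓ N).subgroupOf S from (Subgroup.comap_inf _ _ _).symm,
    Nat.card_congr (Subgroup.subgroupOfEquivOfLe (sup_le hA hN)).toEquiv,
    Nat.card_congr (Subgroup.subgroupOfEquivOfLe (inf_le_left.trans hA)).toEquiv,
    Nat.card_congr (Subgroup.subgroupOfEquivOfLe hA).toEquiv,
    Nat.card_congr (Subgroup.subgroupOfEquivOfLe hN).toEquiv] at h
  exact h

/-- A nontrivial strongly closed subgroup contains a central element of order `p`. -/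
theorem exists_central_order [Finite S] [Fact p.Prime] (hS : IsPGroup p S) {R : Subgroup Ω}
    (hR : F.StronglyClosed R) (hR1 : R ≠ ⊥) :
    ∃ z ∈ R, orderOf z = p ∧ ∀ s ∈ S, s * z = z * s := by
  haveI := hS.isNilpotent
  haveI : (R.subgroupOf S).Normal := ⟨fun n hn g => stronglyClosed_conj hR g.2 hn⟩
  have hne : R.subgroupOf S ⊓ Subgroup.center S ≠ ⊥ := by
    refine PrimitiveDegree.inf_center_ne_bot_of_nilpotent _ fun h => hR1 ?_
    have h' := congrArg (Subgroup.map S.subtype) h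
    rwa [Subgroup.map_subgroupOf_eq_of_le hR.1, Subgroup.map_bot] at h'
  set Z := R.subgroupOf S ⊓ Subgroup.center S
  haveI : Nontrivial Z := (Subgroup.nontrivial_iff_ne_bot Z).mpr hne
  obtain ⟨k, hk0, hk⟩ := (IsPGroup.nontrivial_iff_card (hS.to_subgroup Z)).1 inferInstance
  obtain ⟨z, hz⟩ := exists_prime_orderOf_dvd_card' (G := Z) p (hk ▸ dvd_pow_self p hk0.ne')
  refine ⟨((z : S) : Ω), z.2.1, ?_, fun s hs => ?_⟩
  · rw [Subgroup.orderOf_coe, Subgroup.orderOf_coe, hz]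
  · exact congrArg Subtype.val (Subgroup.mem_center_iff.1 z.2.2 ⟨s, hs⟩)

theorem zpowers_inf_eq_bot {T : Subgroup Ω} {z : Ω} (hp : p.Prime) (hz : orderOf z = p) (hzT : z ∉ T) :
    T ⊓ Subgroup.zpowers z = ⊥ := by
  haveI : Finite (Subgroup.zpowers z) :=
    Nat.finite_of_card_ne_zero (by rw [Nat.card_zpowers, hz]; exact hp.ne_zero)
  have hd : Nat.card ↥(T ⊓ Subgroup.zpowers z) ∣ p := by
    rw [← hz, ← Nat.card_zpowers]
    exact Subgroup.card_dvd_of_le inf_le_right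
  rcases (Nat.dvd_prime hp).1 hd with h | h
  · exact Subgroup.card_eq_one.1 h
  · have heq : T ⊓ Subgroup.zpowers z = Subgroup.zpowers z :=
      Subgroup.eq_of_le_of_card_ge inf_le_right (by rw [h, Nat.card_zpowers, hz])
    exact absurd (heq.ge.trans inf_le_left (Subgroup.mem_zpowers z)) hzT

end Cfsg.Agent.Lib.WeakEmbedding
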