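import Cfsg.Agent.Lib.WeakEmbedding.Basic

/-!
Minimal strongly closed subgroups when all subgroups of one order are weakly embedded.
-/

set_option autoImplicit false
set_option linter.style.haveILetI false

namespace Cfsg.Agent.Lib.WeakEmbedding

open Cfsg Cfsg.FusionSystem Cfsg.Agent.Lib.Fusion

universe u

variable {Ω : Type u} [Group Ω] {S : Subgroup Ω} {F : FusionSystem S} {p : ℕ}

/-- If all nontrivial strongly closed subgroups contain `T`, a subgroup of order `d` contains `T` or meets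
it trivially. -/
theorem inf_eq_bot_or_le {d : ℕ} (hW : WEAt F d) {T : Subgroup Ω} (hT : MinClosed F T)
    (huniq : ∀ R : Subgroup Ω, F.StronglyClosed R → R ≠ ⊥ → T ≤ R) {Q : Subgroup Ω} (hQS : Q ≤ S)
    (hQ : Nat.card Q = d) : Q ⊓ T = ⊥ ∨ T ≤ Q := by
  obtain ⟨P, hP, hQP, hQiP⟩ := hW Q hQS hQ
  by_cases hP1 : P = ⊥
  · subst hP1
    rw [sup_bot_eq] at hQP
    exact hT.inf_eq hQP
  · rcases hT.inf_eq hQiP with h | h
    · refine Or.inl (le_bot_iff.1 ?_)
      rw [← h]
      exact le_inf (le_inf inf_le_left (inf_le_right.trans (huniq P hP hP1))) inf_le_right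
    · exact Or.inr (h.trans inf_le_left)

/-- A minimal strongly closed subgroup has order at most `d`. -/
theorem card_le_of_minClosed [Finite S] [Fact p.Prime] (hS : IsPGroup p S) {k : ℕ} (hk : 1 ≤ k)
    (hW : WEAt F (p ^ k)) {T : Subgroup Ω} (hT : MinClosed F T) : Nat.card T ≤ p ^ k := by
  by_contra hlt
  push Not at hlt
  obtain ⟨Q, -, hQT, hQ⟩ := exists_card_between hS (bot_le : (⊥ : Subgroup Ω) ≤ T) hT.1.1 (k := k)
    (by rw [Subgroup.card_bot]; exact Nat.one_le_pow _ _ (Fact.out : p.Prime).pos) hlt.le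
  have hQ1 : Q ≠ ⊥ := fun h => by
    rw [h, Subgroup.card_bot] at hQ
    exact (Nat.one_lt_pow (by omega) (Fact.out : p.Prime).one_lt).ne hQ
  have hQne : Q ≠ T := fun h => hlt.ne' (h ▸ hQ)
  obtain ⟨P, hP, hQP, hQiP⟩ := hW Q (hQT.trans hT.1.1) hQ
  rcases hT.inf_eq hP with h | h
  · have h1 := stronglyClosed_inf hQP hT.1
    rw [sup_inf_eq_of_inf_eq_bot hP (hQT.trans hT.1.1) hQT h] at h1
    exact hQne (hT.2.2 Q h1 hQT hQ1)
  · rw [inf_eq_left.2 (hQT.trans h)] at hQiP
    exact hQne (hT.2.2 Q hQiP hQT hQ1)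

/-- A minimal strongly closed subgroup of order `d` is abelian. -/
theorem isMulCommutative_of_card_eq [Finite S] [Fact p.Prime] (hS : IsPGroup p S) {k : ℕ}
    (hkS : p ^ k < Nat.card S) (hW : WEAt F (p ^ k)) {T : Subgroup Ω} (hT : MinClosed F T)
    (hTk : Nat.card T = p ^ k) : IsMulCommutative T := by
  by_contra hna
  have hp := (Fact.out : p.Prime)
  haveI := finite_of_le hT.1.1
  obtain ⟨z₀, hz₀T, hz₀o, hz₀c⟩ := exists_central_order hS hT.1 hT.2.1
  set Zc : Subgroup Ω := T ⊓ Subgroup.centralizer (T : Set Ω) with hZc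
  have hz₀ : z₀ ∈ Zc :=
    ⟨hz₀T, Subgroup.mem_centralizer_iff.2 fun t ht => hz₀c t (hT.1.1 ht)⟩
  have hz₀1 : z₀ ≠ 1 := fun h => hp.ne_one (by rw [← hz₀o, h, orderOf_one])
  have hZlt : Zc ≠ T := fun h => hna ⟨⟨fun a b => Subtype.ext
    (Subgroup.mem_centralizer_iff.1 (h.ge b.2).2 a a.2)⟩⟩
  obtain ⟨c, hc⟩ := exists_pow_card hS ((inf_le_left : Zc ≤ T).trans hT.1.1)
  have hck : c < k := by
    rw [← Nat.pow_lt_pow_iff_right hp.one_lt, ← hc, ← hTk]
    refine lt_of_le_of_ne (Subgroup.card_le_of_le inf_le_left) fun h => hZlt ?_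
    exact Subgroup.eq_of_le_of_card_ge inf_le_left h.ge
  have huniq : ∀ R : Subgroup Ω, F.StronglyClosed R → R ≠ ⊥ → T ≤ R := by
    intro R hR hR1
    refine (hT.inf_eq hR).resolve_left fun hRT => ?_
    obtain ⟨z, hzR, hzo, hzc⟩ := exists_central_order hS hR hR1
    have hz1 : z ≠ 1 := fun h => hp.ne_one (by rw [← hzo, h, orderOf_one])
    have hzT : z ∉ T := fun h => hz1 (Subgroup.mem_bot.1 (hRT ▸ (⟨hzR, h⟩ : z ∈ R ⊓ T)))
    obtain ⟨U, hZU, hUT, hU⟩ := exists_card_between hS (inf_le_left : Zc ≤ T) hT.1.1 (k := k - 1)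
      (hc ▸ Nat.pow_le_pow_right hp.pos (by omega))
      (hTk ▸ Nat.pow_le_pow_right hp.pos (Nat.sub_le k 1))
    have hUne : U ≠ T := fun h => by
      rw [h, hTk] at hU
      exact (Nat.pow_lt_pow_right hp.one_lt (by omega : k - 1 < k)).ne' hU
    have hU1 : U ≠ ⊥ := fun h => hz₀1 (Subgroup.mem_bot.1 (h ▸ hZU hz₀))
    have hzS : Subgroup.zpowers z ≤ S := Subgroup.zpowers_le.2 (hR.1 hzR)
    have hzn : S ≤ Subgroup.normalizer (Subgroup.zpowers z : Set Ω) := fun s hs =>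
      Subgroup.centralizer_le_normalizer _ (Subgroup.mem_centralizer_iff.2 fun y hy => by
        obtain ⟨i, rfl⟩ := Subgroup.mem_zpowers_iff.1 hy
        exact ((show Commute s z from hzc s hs).zpow_right i).eq.symm)
    have hTz := zpowers_inf_eq_bot hp hzo hzT
    set Q := U ⊔ Subgroup.zpowers z with hQdef
    have hQS : Q ≤ S := sup_le (hUT.trans hT.1.1) hzS
    have hQk : Nat.card Q = p ^ k := by
      have h := card_sup_mul (hUT.trans hT.1.1) hzS hzn
      rw [le_bot_iff.1 ((inf_le_inf_right _ hUT).trans hTz.le), Subgroup.card_bot, mul_one, hU,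
        Nat.card_zpowers, hzo, ← pow_succ, show k - 1 + 1 = k by omega] at h
      exact h
    have hdec : ∀ x ∈ Q, ∃ u ∈ U, ∃ i ∈ Subgroup.zpowers z, u * i = x := by
      intro x hx
      rw [← SetLike.mem_coe, hQdef, Subgroup.coe_mul_of_left_le_normalizer_right U _
        ((hUT.trans hT.1.1).trans hzn)] at hx
      exact Set.mem_mul.1 hx
    have hQT : Q ⊓ T = U := by
      refine le_antisymm ?_ (le_inf le_sup_left hUT)
      rintro x ⟨hx, hxT⟩
      obtain ⟨u, hu, i, hi, rfl⟩ := hdec x hx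
      have hiT : i ∈ T := by simpa using T.mul_mem (T.inv_mem (hUT hu)) hxT
      rw [show i = 1 from Subgroup.mem_bot.1 (hTz ▸ (⟨hiT, hi⟩ : i ∈ T ⊓ Subgroup.zpowers z)),
        mul_one]
      exact hu
    obtain ⟨P, hP, hQP, hQiP⟩ := hW Q hQS hQk
    rcases hT.inf_eq hP with hPT | hPT
    · have hTQP : T ≤ Q ⊔ P := (hT.inf_eq hQP).resolve_left fun h => hU1 (le_bot_iff.1
        ((le_inf ((le_sup_left : U ≤ Q).trans le_sup_left) hUT).trans h.le))
      refine hUne (le_antisymm hUT fun t ht => ?_)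
      obtain ⟨q, hq, r, hr, hqr⟩ := (mem_sup_stronglyClosed hP hQS).1 (hTQP ht)
      obtain ⟨u, hu, i, hi, hui⟩ := hdec q hq
      have hm : u⁻¹ * t ∈ Zc := by
        refine ⟨T.mul_mem (T.inv_mem (hUT hu)) ht, Subgroup.mem_centralizer_iff.2 fun y hy => ?_⟩
        rw [← hqr, ← hui, show u⁻¹ * (u * i * r) = i * r by group]
        have h1 : Commute y i := by
          obtain ⟨j, rfl⟩ := Subgroup.mem_zpowers_iff.1 hi
          exact (show Commute y z from hzc y (hT.1.1 hy)).zpow_right j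
        have h2 : Commute y r := (commute_of_inf_eq_bot hP hT.1 hPT hr hy).symm
        exact (h1.mul_right h2).eq
      simpa using U.mul_mem hu (hZU hm)
    · have h1 := stronglyClosed_inf hQiP hT.1
      rw [inf_assoc, inf_eq_right.2 hPT, hQT] at h1
      exact hUne (hT.2.2 U h1 hUT hU1)
  obtain ⟨W, hTW, hWS, hWk⟩ := exists_card_between hS hT.1.1 le_rfl (k := k + 1)
    (hTk ▸ Nat.pow_le_pow_right hp.pos (Nat.le_succ k))
    (by
      obtain ⟨b, hb⟩ := exists_pow_card hS (le_refl S)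
      rw [hb] at hkS ⊢
      exact Nat.pow_le_pow_right hp.pos ((Nat.pow_lt_pow_iff_right hp.one_lt).1 hkS))
  haveI := finite_of_le hWS
  obtain ⟨w, hwW, hwT⟩ : ∃ w ∈ W, w ∉ T := by
    by_contra hcon
    push Not at hcon
    rw [le_antisymm hTW hcon, hWk] at hTk
    exact (Nat.pow_lt_pow_right hp.one_lt (Nat.lt_succ_self k)).ne' hTk
  set C := Subgroup.zpowers w ⊔ Subgroup.zpowers z₀ with hC
  have hCW : C ≤ W := sup_le (Subgroup.zpowers_le.2 hwW) (Subgroup.zpowers_le.2 (hTW hz₀T))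
  by_cases hCk : Nat.card C ≤ p ^ k
  · obtain ⟨Q, hCQ, hQW, hQ⟩ := exists_card_between hS hCW hWS (k := k) hCk
      (hWk ▸ Nat.pow_le_pow_right hp.pos (Nat.le_succ k))
    rcases inf_eq_bot_or_le hW hT huniq (hQW.trans hWS) hQ with h | h
    · exact hz₀1 (Subgroup.mem_bot.1 (h ▸ (⟨hCQ (Subgroup.mem_sup_right
        (Subgroup.mem_zpowers z₀)), hz₀T⟩ : z₀ ∈ Q ⊓ T)))
    · haveI := finite_of_le (hQW.trans hWS)
      have hTQ : T = Q := Subgroup.eq_of_le_of_card_ge h (by rw [hQ, hTk])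
      exact hwT (hTQ ▸ hCQ (Subgroup.mem_sup_left (Subgroup.mem_zpowers w)))
  · have hCeq : C = W := by
      refine Subgroup.eq_of_le_of_card_ge hCW ?_
      obtain ⟨a, ha⟩ := exists_pow_card hS (hCW.trans hWS)
      rw [hWk, ha]
      refine Nat.pow_le_pow_right hp.pos ?_
      push Not at hCk
      rw [ha, Nat.pow_lt_pow_iff_right hp.one_lt] at hCk
      exact hCk
    have hCC : C ≤ Subgroup.centralizer (C : Set Ω) := by
      have hwz : w * z₀ = z₀ * w := hz₀c w (hWS hwW)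
      have h1 : C ≤ Subgroup.centralizer ({w, z₀} : Set Ω) := by
        refine sup_le (Subgroup.zpowers_le.2 ?_) (Subgroup.zpowers_le.2 ?_) <;>
          rw [Subgroup.mem_centralizer_iff] <;> rintro y (rfl | rfl)
        · rfl
        · exact hwz.symm
        · exact hwz
        · rfl
      refine sup_le (Subgroup.zpowers_le.2 ?_) (Subgroup.zpowers_le.2 ?_) <;>
        rw [Subgroup.mem_centralizer_iff] <;> intro y hy
      · exact (Subgroup.mem_centralizer_iff.1 (h1 hy) w (Or.inl rfl)).symm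
      · exact (Subgroup.mem_centralizer_iff.1 (h1 hy) z₀ (Or.inr rfl)).symm
    exact hna ⟨⟨fun a b => Subtype.ext
      (Subgroup.mem_centralizer_iff.1 (hCC (hCeq ▸ hTW b.2)) a (hCeq ▸ hTW a.2))⟩⟩

end Cfsg.Agent.Lib.WeakEmbedding
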