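import Cfsg.Agent.Lib.WeakEmbedding.Basic
import Cfsg.Agent.Lib.Fusion.Tate

/-!
Passing the hypotheses to the factor system modulo a strongly closed subgroup, and maps modulo it.
-/

set_option autoImplicit false
set_option linter.style.haveILetI false

namespace Cfsg.Agent.Lib.WeakEmbedding

open Cfsg Cfsg.FusionSystem Cfsg.Agent.Lib.Fusion
open Cfsg.Agent.Lib.FusionFactor (mem_preimageAlong mem_imageAlong preimageAlong_le exists_preimage
  exists_eq_of_stronglyClosed)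

universe u

variable {Ω : Type u} [Group Ω] {S : Subgroup Ω} {F : FusionSystem S} {p : ℕ}
  {Ω' : Type u} [Group Ω'] {S' : Subgroup Ω'} {θ : S →* Ω'} {E : FusionSystem S'} {T : Subgroup Ω}

theorem ker_le_preimageAlong (hE : F.IsFactorSystem T θ E) (P' : Subgroup Ω') :
    T ≤ preimageAlong θ P' := fun x hx =>
  (mem_preimageAlong θ).2 ⟨hE.1 hx, by rw [(hE.2.1 ⟨x, hE.1 hx⟩).2 hx]; exact one_mem P'⟩

theorem imageAlong_le (hE : F.IsFactorSystem T θ E) (P : Subgroup Ω) : imageAlong θ P ≤ S' :=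
  (Subgroup.map_le_range θ _).trans hE.2.2.1.le

theorem mem_iff_image (hE : F.IsFactorSystem T θ E) {Q : Subgroup Ω} (hTQ : T ≤ Q) {x : Ω}
    (hx : x ∈ S) : θ ⟨x, hx⟩ ∈ imageAlong θ Q ↔ x ∈ Q := by
  refine ⟨fun h => ?_, fun h => (mem_imageAlong θ).2 ⟨x, hx, h, rfl⟩⟩
  obtain ⟨y, hy, hyQ, hyx⟩ := (mem_imageAlong θ).1 h
  have h1 : θ (⟨y, hy⟩⁻¹ * ⟨x, hx⟩) = 1 := by rw [map_mul, map_inv, hyx, inv_mul_cancel]
  have h2 : y⁻¹ * x ∈ Q := hTQ ((hE.2.1 _).1 h1)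
  simpa using Q.mul_mem hyQ h2

theorem preimage_imageAlong (hE : F.IsFactorSystem T θ E) {Q : Subgroup Ω} (hQS : Q ≤ S)
    (hTQ : T ≤ Q) : preimageAlong θ (imageAlong θ Q) = Q := by
  ext x
  rw [mem_preimageAlong]
  exact ⟨fun ⟨hx, h⟩ => (mem_iff_image hE hTQ hx).1 h,
    fun h => ⟨hQS h, (mem_iff_image hE hTQ (hQS h)).2 h⟩⟩

theorem image_preimageAlong (hE : F.IsFactorSystem T θ E) {P' : Subgroup Ω'} (hP' : P' ≤ S') :
    imageAlong θ (preimageAlong θ P') = P' := by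
  ext y
  rw [mem_imageAlong]
  constructor
  · rintro ⟨x, hx, hxP, rfl⟩
    exact ((mem_preimageAlong θ).1 hxP).2
  · intro hy
    obtain ⟨s, rfl⟩ := hE.2.2.1.ge (hP' hy)
    exact ⟨s, s.2, (mem_preimageAlong θ).2 ⟨s.2, hy⟩, rfl⟩

theorem imageAlong_sup {A B : Subgroup Ω} (hA : A ≤ S) (hB : B ≤ S) :
    imageAlong θ (A ⊔ B) = imageAlong θ A ⊔ imageAlong θ B := by
  rw [imageAlong, imageAlong, imageAlong, Subgroup.subgroupOf_sup hA hB, Subgroup.map_sup]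

theorem imageAlong_sup_ker (hE : F.IsFactorSystem T θ E) {A : Subgroup Ω} (hA : A ≤ S) :
    imageAlong θ (A ⊔ T) = imageAlong θ A := by
  rw [imageAlong_sup hA hE.1, sup_eq_left]
  intro y hy
  obtain ⟨x, hx, hxT, rfl⟩ := (mem_imageAlong θ).1 hy
  rw [(hE.2.1 ⟨x, hx⟩).2 hxT]
  exact one_mem _

theorem card_preimageAlong (hE : F.IsFactorSystem T θ E) [Finite S] {P' : Subgroup Ω'}
    (hP' : P' ≤ S') : Nat.card (preimageAlong θ P') = Nat.card T * Nat.card P' := by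
  set U := preimageAlong θ P'
  have hUS : U ≤ S := preimageAlong_le θ P'
  let g : U →* P' := (θ.comp (Subgroup.inclusion hUS)).codRestrict P' fun x =>
    ((mem_preimageAlong θ).1 x.2).2
  have hg : Function.Surjective g := fun y => by
    obtain ⟨x, hx⟩ := exists_preimage θ (hP'.trans hE.2.2.1.ge) y
    exact ⟨x, Subtype.ext hx⟩
  have hker : g.ker = T.subgroupOf U := by
    ext x
    exact ⟨fun h => (hE.2.1 _).1 (congrArg Subtype.val h), fun h => Subtype.ext ((hE.2.1 _).2 h)⟩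
  rw [Subgroup.card_eq_card_quotient_mul_card_subgroup g.ker,
    Nat.card_congr (QuotientGroup.quotientKerEquivOfSurjective g hg).toEquiv, hker,
    Nat.card_congr (Subgroup.subgroupOfEquivOfLe (ker_le_preimageAlong hE P')).toEquiv, mul_comm]

theorem stronglyClosed_image (hE : F.IsFactorSystem T θ E) {R : Subgroup Ω}
    (hR : F.StronglyClosed R) (hTR : T ≤ R) : E.StronglyClosed (imageAlong θ R) := by
  refine ⟨imageAlong_le hE R, fun R' hR' φ' hφ' y => ?_⟩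
  obtain ⟨hR'S, φ, hφ, hP, hφS, hmem, hind⟩ := (hE.2.2.2 R' φ').1 hφ'
  obtain ⟨x, hx⟩ := exists_preimage θ (hR'S.trans hE.2.2.1.ge) y
  have hxR : (x : Ω) ∈ R := (mem_iff_image hE hTR (hP x.2)).1 (hR' (hx ▸ y.2))
  rw [show y = ⟨θ ⟨x, hP x.2⟩, hmem x⟩ from Subtype.ext hx.symm, hind x]
  exact (mem_iff_image hE hTR (hφS x)).2 (stronglyClosed_map hR hφ x hxR)

theorem preimage_normalizerIn (hE : F.IsFactorSystem T θ E) {Q : Subgroup Ω} (hQS : Q ≤ S)
    (hTQ : T ≤ Q) :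
    preimageAlong θ (normalizerIn S' (imageAlong θ Q)) = normalizerIn S Q := by
  ext s
  rw [mem_preimageAlong]
  constructor
  · rintro ⟨hs, -, hn⟩
    refine ⟨hs, Subgroup.mem_normalizer_iff.2 fun x => ?_⟩
    by_cases hx : x ∈ S
    · have hx' : s * x * s⁻¹ ∈ S := mul_mem (mul_mem hs hx) (inv_mem hs)
      rw [← mem_iff_image hE hTQ hx, ← mem_iff_image hE hTQ hx',
        Subgroup.mem_normalizer_iff.1 hn,
        show (⟨s * x * s⁻¹, hx'⟩ : S) = ⟨s, hs⟩ * ⟨x, hx⟩ * ⟨s, hs⟩⁻¹ from rfl, map_mul, map_mul,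
        map_inv]
    · refine iff_of_false (fun h => hx (hQS h)) fun h => hx ?_
      have := mul_mem (mul_mem (inv_mem hs) (hQS h)) hs
      simpa [mul_assoc] using this
  · rintro ⟨hs, hn⟩
    refine ⟨hs, hE.2.2.1.le ⟨_, rfl⟩, Subgroup.mem_normalizer_iff.2 fun y => ?_⟩
    constructor
    · intro hy
      obtain ⟨x, hx, hxQ, rfl⟩ := (mem_imageAlong θ).1 hy
      rw [← map_mul, ← map_inv, ← map_mul]
      exact (mem_imageAlong θ).2 ⟨_, (⟨s, hs⟩ * ⟨x, hx⟩ * ⟨s, hs⟩⁻¹ : S).2,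
        (Subgroup.mem_normalizer_iff.1 hn x).1 hxQ, rfl⟩
    · intro hy
      obtain ⟨x, hx, hxQ, hxy⟩ := (mem_imageAlong θ).1 hy
      have hy' : y = θ (⟨s, hs⟩⁻¹ * ⟨x, hx⟩ * ⟨s, hs⟩) := by
        rw [map_mul, map_mul, map_inv, hxy]
        group
      rw [hy']
      refine (mem_imageAlong θ).2 ⟨_, (⟨s, hs⟩⁻¹ * ⟨x, hx⟩ * ⟨s, hs⟩ : S).2, ?_, rfl⟩
      refine (Subgroup.mem_normalizer_iff.1 hn _).2 ?_
      show s * (s⁻¹ * x * s) * s⁻¹ ∈ Q
      simpa [mul_assoc] using hxQ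

theorem weAt_factor [Finite S] [Fact p.Prime] (hS : IsPGroup p S) (hF : F.IsSaturated p)
    (hT : F.StronglyClosed T) (hE : F.IsFactorSystem T θ E) {d : ℕ}
    (hW : WEAt F (Nat.card T * d)) : WEAt E d := by
  intro Q' hQ' hcard
  set Q := preimageAlong θ Q' with hQdef
  have hQS : Q ≤ S := preimageAlong_le θ Q'
  have hTQ : T ≤ Q := ker_le_preimageAlong hE Q'
  obtain ⟨P, hP, hQP, hQiP⟩ := hW Q hQS (by rw [hQdef, card_preimageAlong hE hQ', hcard])
  refine ⟨imageAlong θ P, ?_, ?_, ?_⟩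
  · rw [← imageAlong_sup_ker hE hP.1]
    exact stronglyClosed_image hE (stronglyClosed_sup hS hF hP hT) le_sup_right
  · rw [show Q' ⊔ imageAlong θ P = imageAlong θ (Q ⊔ P) by
      rw [imageAlong_sup hQS hP.1, hQdef, image_preimageAlong hE hQ']]
    exact stronglyClosed_image hE hQP (hTQ.trans le_sup_left)
  · rw [show Q' ⊓ imageAlong θ P = imageAlong θ ((Q ⊓ P) ⊔ T) by
      rw [imageAlong_sup_ker hE (inf_le_left.trans hQS)]
      ext y
      constructor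
      · rintro ⟨hy, hyP⟩
        obtain ⟨x, hx, hxP, rfl⟩ := (mem_imageAlong θ).1 hyP
        exact (mem_imageAlong θ).2 ⟨x, hx, ⟨(mem_preimageAlong θ).2 ⟨hx, hy⟩, hxP⟩, rfl⟩
      · intro hy
        obtain ⟨x, hx, hxQP, rfl⟩ := (mem_imageAlong θ).1 hy
        exact ⟨((mem_preimageAlong θ).1 hxQP.1).2, (mem_imageAlong θ).2 ⟨x, hx, hxQP.2, rfl⟩⟩]
    exact stronglyClosed_image hE (stronglyClosed_sup hS hF hQiP hT) le_sup_right

theorem innerLocal_factor [Finite S] [Fact p.Prime] (hS : IsPGroup p S) (hF : F.IsSaturated p)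
    (hT : F.StronglyClosed T) (hE : F.IsFactorSystem T θ E) {d : ℕ}
    (hL : InnerLocalAt F (Nat.card T * d)) : InnerLocalAt E d := by
  intro H' hH' hcard M hM
  set H := preimageAlong θ H' with hHdef
  have hHS : H ≤ S := preimageAlong_le θ H'
  have hTH : T ≤ H := ker_le_preimageAlong hE H'
  have hH'S : H' ≤ S' := hH'.1
  have hmor := (isSurjectiveMorphism_of_isFactorSystem hS hF hT hE).1
  have himH : imageAlong θ H = H' := image_preimageAlong hE hH'S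
  have hFN : F.IsFullyNormalized H := by
    refine ⟨hHS, fun Q hHQ => ?_⟩
    have hQS := isConj_le_right hHQ
    obtain ⟨φ, hφ, hφr⟩ := hHQ
    have hTQ : T ≤ Q := fun y hy => by
      obtain ⟨x, -, hx⟩ := exists_eq_of_stronglyClosed F hT hφ hTH hy
      exact hφr ▸ ⟨x, hx⟩
    obtain ⟨φ', hφ', hP, hφS, hmem, hind⟩ := hmor.2 H φ hφ
    have hconj : E.IsConj (imageAlong θ H) (imageAlong θ Q) := by
      refine ⟨φ', hφ', le_antisymm ?_ ?_⟩
      · rintro _ ⟨⟨y, hy⟩, rfl⟩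
        obtain ⟨x, hx, hxH, rfl⟩ := (mem_imageAlong θ).1 hy
        rw [hind ⟨x, hxH⟩]
        exact (mem_imageAlong θ).2 ⟨_, hφS ⟨x, hxH⟩, hφr ▸ ⟨_, rfl⟩, rfl⟩
      · intro y hy
        obtain ⟨x, hx, hxQ, rfl⟩ := (mem_imageAlong θ).1 hy
        obtain ⟨h, hh⟩ : x ∈ φ.range := hφr.symm ▸ hxQ
        refine ⟨⟨θ ⟨h, hP h.2⟩, hmem h⟩, ?_⟩
        rw [hind h]
        exact congrArg θ (Subtype.ext hh)
    rw [himH] at hconj
    have := hH'.2 _ hconj
    rw [← preimage_normalizerIn hE hQS hTQ, ← preimage_normalizerIn hE hHS hTH,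
      himH, card_preimageAlong hE (normalizerIn_le _), card_preimageAlong hE (normalizerIn_le _)]
    exact Nat.mul_le_mul_left _ this
  obtain ⟨N, hN⟩ := exists_normalizerSystem F hHS
  have hin := hL H hFN (by rw [hHdef, card_preimageAlong hE hH'S, hcard]) N hN
  refine isInnerSystem_of_le fun P' φ' hφ' => ?_
  rw [hM P'] at hφ'
  obtain ⟨-, hP'N, -, ψ', hψ', hψe', hψH⟩ := hφ'
  set U := preimageAlong θ (P' ⊔ H') with hUdef
  obtain ⟨hsrc, ψ, hψ, hUS, hψS, hmem, hind⟩ := (hE.2.2.2 _ _).1 hψ'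
  have hVU : preimageAlong θ P' ≤ U := Subgroup.map_mono (Subgroup.comap_mono le_sup_left)
  have hHU : H ≤ U := Subgroup.map_mono (Subgroup.comap_mono le_sup_right)
  have hVN : preimageAlong θ P' ≤ normalizerIn S H := by
    rw [← preimage_normalizerIn hE hHS hTH, himH]
    exact Subgroup.map_mono (Subgroup.comap_mono hP'N)
  have hψH' : ∀ h : U, (h : Ω) ∈ H → ψ h ∈ H := by
    intro h hh
    refine (mem_preimageAlong θ).2 ⟨hψS h, ?_⟩
    rw [← hind h]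
    exact hψH.le ⟨_, ((mem_preimageAlong θ).1 hh).2, rfl⟩
  haveI : Finite H := finite_of_le hHS
  haveI : Finite U := finite_of_le hUS
  have hle : preimageAlong θ P' ⊔ H ≤ U := sup_le hVU hHU
  have hψN : ψ.comp (Subgroup.inclusion hVU) ∈ F.normalizerHom H (preimageAlong θ P') := by
    refine ⟨restrict_mem hψ hVU, hVN, fun x => ?_, ψ.comp (Subgroup.inclusion hle),
      restrict_mem hψ hle, fun x => rfl, ?_⟩
    · rw [← preimage_normalizerIn hE hHS hTH, himH]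
      refine (mem_preimageAlong θ).2 ⟨hψS _, ?_⟩
      have hxP' : θ ⟨x, hUS (hVU x.2)⟩ ∈ P' := ((mem_preimageAlong θ).1 x.2).2
      have hxN := hP'N hxP'
      refine ⟨hE.2.2.1.le ⟨_, rfl⟩, ?_⟩
      have he := hind (Subgroup.inclusion hVU x)
      show θ ⟨ψ (Subgroup.inclusion hVU x), hψS _⟩ ∈ Subgroup.normalizer (H' : Set Ω')
      rw [← he]
      have h1 := apply_mem_normalizer ψ' (P := H') ⟨θ ⟨x, hUS (hVU x.2)⟩, hmem (Subgroup.inclusion hVU x)⟩ hxN.2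
      rwa [show imgSub ψ' H' = H' from hψH] at h1
    · refine Subgroup.eq_of_le_of_card_ge ?_ (card_imgSub
        (F.injective_of_mem (restrict_mem hψ hle)) le_sup_right).ge
      intro y hy
      obtain ⟨z, hz, rfl⟩ := mem_imgSub.1 hy
      exact hψH' _ hz
  rw [← hN] at hψN
  rw [hin] at hψN
  obtain ⟨-, g, hg, hgψ⟩ := hψN
  have hg' : θ ⟨g, hg.1⟩ ∈ normalizerIn S' H' := by
    have h : g ∈ preimageAlong θ (normalizerIn S' (imageAlong θ H)) := by
      rw [preimage_normalizerIn hE hHS hTH]; exact hg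
    rw [himH] at h
    exact ((mem_preimageAlong θ).1 h).2
  refine ⟨hP'N, θ ⟨g, hg.1⟩, hg', fun y => ?_⟩
  obtain ⟨x, hx⟩ := exists_preimage θ ((hP'N.trans inf_le_left).trans hE.2.2.1.ge) y
  rw [← hψe' y, show Subgroup.inclusion le_sup_left y =
    (⟨θ ⟨(x : Ω), hUS (hVU x.2)⟩, hmem (Subgroup.inclusion hVU x)⟩ : ↥(P' ⊔ H')) from
      Subtype.ext hx.symm]
  refine (hind (Subgroup.inclusion hVU x)).trans ?_
  rw [← hx, ← map_inv, ← map_mul, ← map_mul]
  exact congrArg θ (Subtype.ext (hgψ x))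

/-- Over an inner factor system every map is, modulo `T`, conjugation by an element of `S`. -/
theorem exists_conj_mod [Finite S] [Fact p.Prime] (hS : IsPGroup p S) (hF : F.IsSaturated p)
    (hT : F.StronglyClosed T) (hE : F.IsFactorSystem T θ E) (hin : IsInnerSystem E)
    {R : Subgroup Ω} {φ : R →* Ω} (hφ : φ ∈ F.Hom R) :
    ∃ s ∈ S, ∀ x : R, (s * (x : Ω) * s⁻¹)⁻¹ * φ x ∈ T := by
  obtain ⟨φ', hφ', hP, hφS, hmem, hind⟩ :=
    (isSurjectiveMorphism_of_isFactorSystem hS hF hT hE).1.2 R φ hφ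
  rw [hin] at hφ'
  obtain ⟨-, g', hg', hge⟩ := hφ'
  obtain ⟨s, rfl⟩ := hE.2.2.1.ge hg'
  refine ⟨s, s.2, fun x => (hE.2.1 ((s * ⟨x, hP x.2⟩ * s⁻¹)⁻¹ * ⟨φ x, hφS x⟩)).1 ?_⟩
  rw [map_mul, map_inv, map_mul, map_mul, map_inv, ← hind x, hge ⟨_, hmem x⟩, inv_mul_cancel]

end Cfsg.Agent.Lib.WeakEmbedding
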