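import Cfsg.Agent.Lib.WeakEmbedding.Closed
import Cfsg.Agent.Lib.Fusion.Normal
import Cfsg.Agent.Lib.WeakEmbedding.Factor
import Cfsg.Agent.Lib.PLemmas.NormalSeries

/-!
A saturated system is inner if all subgroups of one order are weakly embedded and have inner
normalizer systems.
-/

set_option autoImplicit false
set_option linter.style.haveILetI false

namespace Cfsg.Agent.Lib.WeakEmbedding

open Cfsg Cfsg.FusionSystem Cfsg.Agent.Lib.Fusion
open Cfsg.Agent.Lib.FusionFactor (exists_factorSystem)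

universe u

variable {Ω : Type u} [Group Ω] {S : Subgroup Ω} {F : FusionSystem S} {p : ℕ}

/-- Every map is, modulo `T`, conjugation by an element of `S`. -/
def InnerMod (F : FusionSystem S) (T : Subgroup Ω) : Prop :=
  ∀ (R : Subgroup Ω) (φ : R →* Ω), φ ∈ F.Hom R →
    ∃ s ∈ S, ∀ x : R, (s * (x : Ω) * s⁻¹)⁻¹ * φ x ∈ T

theorem exists_pow_mod [Finite S] (hS : IsPGroup p S) {T : Subgroup Ω} (hT : F.StronglyClosed T)
    (hmod : InnerMod F T) {R : Subgroup Ω} (hR : R ≤ S) {α : MulAut R} (hα : α ∈ F.autGroup R) :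
    ∃ j : ℕ, ∀ x : R, (x : Ω)⁻¹ * ((α ^ p ^ j) x : R) ∈ T := by
  obtain ⟨s, hs, hsx⟩ := hmod R _ (autGroup_hom_mem hR hα)
  have key : ∀ (m : ℕ) (x : R), (s ^ m * (x : Ω) * (s ^ m)⁻¹)⁻¹ * ((α ^ m) x : R) ∈ T := by
    intro m
    induction m with
    | zero => intro x; simp
    | succ m ih =>
      intro x
      have h1 : (s * (((α ^ m) x : R) : Ω) * s⁻¹)⁻¹ * ((α ((α ^ m) x) : R) : Ω) ∈ T := hsx ((α ^ m) x)
      have h2 := stronglyClosed_conj hT hs (ih x)
      have h3 := T.mul_mem h2 h1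
      rw [pow_succ' α, MulAut.mul_apply, pow_succ' s]
      convert h3 using 1
      group
  obtain ⟨j, hj⟩ := hS ⟨s, hs⟩
  have hsj : s ^ p ^ j = 1 := congrArg Subtype.val hj
  refine ⟨j, fun x => ?_⟩
  simpa [hsj] using key (p ^ j) x

theorem pow_eq_one_of_fix {T R : Subgroup Ω} {c : ℕ} (hc : Nat.card T = p ^ c) {β : MulAut R}
    (hd : ∀ x : R, (x : Ω)⁻¹ * (β x : R) ∈ T) (hfix : ∀ x : R, (x : Ω) ∈ T → β x = x) :
    β ^ p ^ c = 1 := by
  have hiter : ∀ (m : ℕ) (x : R), (β ^ m) x = x * (x⁻¹ * β x) ^ m := by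
    intro m
    induction m with
    | zero => intro x; simp
    | succ m ih =>
      intro x
      rw [pow_succ' β, MulAut.mul_apply, ih, map_mul, map_pow, hfix (x⁻¹ * β x) (hd x), pow_succ',
        ← mul_assoc x, mul_inv_cancel_left]
  refine MulEquiv.ext fun x => ?_
  rw [hiter, show (x⁻¹ * β x) ^ p ^ c = 1 from Subtype.ext ?_, mul_one]
  · rfl
  · have h1 := congrArg Subtype.val (pow_card_eq_one' (x := (⟨_, hd x⟩ : T)))
    rw [hc] at h1
    simpa using h1

theorem isInner_of_two [Finite S] [Fact p.Prime] (hS : IsPGroup p S) (hF : F.IsSaturated p)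
    {T₁ T₂ : Subgroup Ω} (h₁ : F.StronglyClosed T₁) (h₂ : F.StronglyClosed T₂)
    (h : T₁ ⊓ T₂ = ⊥) (hm₁ : InnerMod F T₁) (hm₂ : InnerMod F T₂) : IsInnerSystem F := by
  refine isInner_of_automizers hS hF fun R hR _ _ α => ?_
  obtain ⟨i, hi⟩ := exists_pow_mod hS h₁ hm₁ hR.1 α.2
  obtain ⟨j, hj⟩ := exists_pow_mod hS h₂ hm₂ hR.1 α.2
  refine ⟨i + j, Subtype.ext (MulEquiv.ext fun x => Subtype.ext ?_)⟩
  show ((((α : MulAut R) ^ p ^ (i + j)) x : R) : Ω) = x
  have hmono : ∀ (U : Subgroup Ω) (n : ℕ) (β : MulAut R), (∀ y : R, (y : Ω)⁻¹ * (β y : R) ∈ U) →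
      ∀ y : R, (y : Ω)⁻¹ * ((β ^ n) y : R) ∈ U := by
    intro U n β hβ
    induction n with
    | zero => intro y; simp
    | succ n ih =>
      intro y
      rw [pow_succ' β, MulAut.mul_apply]
      have := U.mul_mem (ih y) (hβ ((β ^ n) y))
      simpa [mul_assoc] using this
  have e1 : (x : Ω)⁻¹ * (((α : MulAut R) ^ p ^ (i + j)) x : R) ∈ T₁ := by
    rw [pow_add, pow_mul]
    exact hmono _ _ _ hi x
  have e2 : (x : Ω)⁻¹ * (((α : MulAut R) ^ p ^ (i + j)) x : R) ∈ T₂ := by
    rw [add_comm, pow_add, pow_mul]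
    exact hmono _ _ _ hj x
  have e3 : (x : Ω)⁻¹ * (((α : MulAut R) ^ p ^ (i + j)) x : R) ∈ T₁ ⊓ T₂ := ⟨e1, e2⟩
  rw [h, Subgroup.mem_bot, inv_mul_eq_one] at e3
  exact e3.symm

theorem isInner_of_le_frattini [Finite S] [Fact p.Prime] (hS : IsPGroup p S) (hF : F.IsSaturated p)
    {T : Subgroup Ω} (hTf : T ≤ (frattini ↥S).map S.subtype) (hmod : InnerMod F T) :
    IsInnerSystem F := by
  refine hom_eq_inner_of_focal_le_frattini hS hF ((Subgroup.closure_le _).2 ?_)
  rintro _ ⟨P, φ, x, hφ, rfl⟩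
  obtain ⟨s, hs, h⟩ := hmod P φ hφ
  have h1 : (x : Ω)⁻¹ * (s * (x : Ω) * s⁻¹) ∈ (frattini ↥S).map S.subtype :=
    commutator_le_frattini_map hS (by
      have h0 := Subgroup.commutator_mem_commutator (S.inv_mem (src_le hφ x.2)) hs
      rw [commutatorElement_def, inv_inv] at h0
      simpa [mul_assoc] using h0)
  have := Subgroup.mul_mem _ h1 (hTf (h x))
  simpa [mul_assoc] using this

theorem isInner_of_card_prime [Finite S] [Fact p.Prime] (hS : IsPGroup p S) (hF : F.IsSaturated p)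
    {k : ℕ} (hkS : p ^ k < Nat.card S) (hL : InnerLocalAt F (p ^ k))
    {T : Subgroup Ω} (hT : F.StronglyClosed T) (hTp : Nat.card T = p) (hmod : InnerMod F T) :
    IsInnerSystem F := by
  have hp := (Fact.out : p.Prime)
  have hT1 : T ≠ ⊥ := fun h => hp.ne_one (by rw [← hTp, h, Subgroup.card_bot])
  haveI := finite_of_le hT.1
  obtain ⟨z, hzT, hzo, hzc⟩ := exists_central_order hS hT hT1
  have hTz : T = Subgroup.zpowers z := (Subgroup.eq_of_le_of_card_ge (Subgroup.zpowers_le.2 hzT)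
    (by rw [Nat.card_zpowers, hzo, hTp])).symm
  have hcen : ∀ s ∈ S, ∀ t ∈ T, s * t = t * s := by
    intro s hs t ht
    rw [hTz] at ht
    obtain ⟨i, rfl⟩ := Subgroup.mem_zpowers_iff.1 ht
    exact ((show Commute s z from hzc s hs).zpow_right i).eq
  -- automorphisms of `T` in the system
  have hσ : ∀ σ ∈ F.autGroup T, ∃ j : ℕ, σ ^ p ^ j = 1 := by
    intro σ hσ
    have hTn : F.IsFullyNormalized T := isFullyNormalized_of_normalizerIn_eq hT.1
      (le_antisymm inf_le_left (le_inf le_rfl (stronglyClosed_le_normalizer hT)))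
    obtain ⟨ψ, hψ, hψe⟩ := (isReceptive_of_isFullyNormalized hS hF hTn).2 T (autHom σ)
      (autGroup_hom_mem hT.1 hσ) (range_autHom σ)
    have hext : S ≤ extender S T (autHom σ) := by
      intro g hg
      refine mem_extender_of hg (stronglyClosed_le_normalizer hT hg) S.one_mem fun x hx => ?_
      have hgx : (⟨g * (x : Ω) * g⁻¹, hx⟩ : T) = x :=
        Subtype.ext (by show g * (x : Ω) * g⁻¹ = x; rw [hcen g hg x x.2, mul_inv_cancel_right])
      rw [hgx]
      simp
    obtain ⟨α, hα, hαx⟩ := exists_aut_of_hom (restrict_mem hψ hext) fun x =>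
      val_mem (restrict_mem hψ hext) x
    have hαT : ∀ (m : ℕ) (t : T), ((α ^ m) ⟨t, hT.1 t.2⟩ : Ω) = ((σ ^ m) t : T) := by
      intro m
      induction m with
      | zero => intro t; rfl
      | succ m ih =>
        intro t
        have e : (α ^ m) ⟨t, hT.1 t.2⟩ = (⟨((σ ^ m) t : T), hT.1 ((σ ^ m) t).2⟩ : S) :=
          Subtype.ext (ih t)
        rw [pow_succ' α, MulAut.mul_apply, e, hαx, pow_succ' σ, MulAut.mul_apply]
        exact hψe _ ((σ ^ m) t).2 _
    obtain ⟨j, hj⟩ := exists_pow_mod hS hT hmod le_rfl hα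
    refine ⟨j, MulEquiv.ext fun t => Subtype.ext ?_⟩
    show (((σ ^ p ^ j) t : T) : Ω) = t
    by_contra hne
    set β := α ^ p ^ j with hβ
    have hβT : (β ⟨t, hT.1 t.2⟩ : Ω) ≠ t := by rw [hβ, hαT]; exact hne
    let f : S →* Ω :=
      { toFun := fun s => (s : Ω)⁻¹ * (β s : Ω)
        map_one' := by simp
        map_mul' := fun a b => by
          rw [map_mul, Subgroup.coe_mul, Subgroup.coe_mul, mul_inv_rev]
          calc (b : Ω)⁻¹ * (a : Ω)⁻¹ * ((β a : Ω) * (β b : Ω))
              = ((b : Ω)⁻¹ * ((a : Ω)⁻¹ * (β a : Ω))) * (β b : Ω) := by group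
            _ = (((a : Ω)⁻¹ * (β a : Ω)) * (b : Ω)⁻¹) * (β b : Ω) := by
                rw [hcen _ (S.inv_mem b.2) _ (hj a)]
            _ = ((a : Ω)⁻¹ * (β a : Ω)) * ((b : Ω)⁻¹ * (β b : Ω)) := by group }
    have hfr : f.range ≤ T := by rintro _ ⟨s, rfl⟩; exact hj s
    have hfix : ∀ s ∈ f.ker, β s = s := fun s hs =>
      Subtype.ext (inv_mul_eq_one.1 (show (s : Ω)⁻¹ * (β s : Ω) = 1 from hs)).symm
    obtain ⟨a, ha⟩ := exists_pow_card hS (le_refl S)
    obtain ⟨c, hc⟩ := (hS.to_subgroup f.ker).exists_card_eq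
    have hkc : k ≤ c := by
      have h1 : Nat.card S = Nat.card f.range * Nat.card f.ker := by
        rw [← Nat.card_congr (QuotientGroup.quotientKerEquivRange f).toEquiv]
        exact Subgroup.card_eq_card_quotient_mul_card_subgroup _
      have h2 : Nat.card f.range ≤ p := hTp ▸ Subgroup.card_le_of_le hfr
      rw [ha, Nat.pow_lt_pow_iff_right hp.one_lt] at hkS
      by_contra hck
      push Not at hck
      have h3 : p ^ a ≤ p ^ (c + 1) := by
        rw [← ha, h1, hc, pow_succ']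
        exact Nat.mul_le_mul_right _ h2
      rw [Nat.pow_le_pow_iff_right hp.one_lt] at h3
      omega
    obtain ⟨K, hKn, hKC, hK⟩ := PLemmas.exists_normal_le_card_eq hS f.ker hc hkc
    set H := K.map S.subtype with hHdef
    have hHS : H ≤ S := Subgroup.map_subtype_le K
    have hHn : normalizerIn S H = S := by
      refine le_antisymm inf_le_left (le_inf le_rfl ?_)
      have h := Subgroup.le_normalizer_map (H := K) S.subtype
      rw [Subgroup.normalizer_eq_top K, ← MonoidHom.range_eq_map, Subgroup.range_subtype] at h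
      exact h
    obtain ⟨N, hN⟩ := exists_normalizerSystem F hHS
    have hin := hL H (isFullyNormalized_of_normalizerIn_eq hHS hHn)
      (by rw [← hK]; exact Nat.card_congr (Subgroup.equivMapOfInjective K S.subtype
        S.subtype_injective).toEquiv.symm) N hN
    have hβF : β ∈ F.autGroup S := (F.autGroup S).pow_mem hα _
    have hsup : S ⊔ H ≤ S := sup_le le_rfl hHS
    have hNh : autHom β ∈ F.normalizerHom H S := by
      refine ⟨autGroup_hom_mem le_rfl hβF, hHn.ge, fun x => hHn.ge (β x).2,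
        (autHom β).comp (Subgroup.inclusion hsup), restrict_mem (autGroup_hom_mem le_rfl hβF) hsup,
        fun x => rfl, ?_⟩
      have hfx : ∀ y : (S ⊔ H : Subgroup Ω), (y : Ω) ∈ H →
          ((autHom β).comp (Subgroup.inclusion hsup)) y = y := by
        intro y hy
        obtain ⟨w, hw, hwy⟩ := hy
        have he : Subgroup.inclusion hsup y = w := Subtype.ext hwy.symm
        show ((β (Subgroup.inclusion hsup y) : S) : Ω) = y
        rw [he, hfix w (hKC hw)]
        exact hwy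
      ext y
      rw [mem_imgSub]
      constructor
      · rintro ⟨w, hw, rfl⟩
        rw [hfx w hw]
        exact hw
      · intro hy
        exact ⟨⟨y, Subgroup.mem_sup_right hy⟩, hy, hfx _ hy⟩
    rw [← hN, hin] at hNh
    obtain ⟨-, g, hg, hgβ⟩ := hNh
    refine hβT ?_
    have := hgβ ⟨t, hT.1 t.2⟩
    rw [autHom_apply] at this
    rw [this]
    show g * (t : Ω) * g⁻¹ = t
    rw [hcen g hg.1 t t.2, mul_inv_cancel_right]
  refine isInner_of_automizers hS hF fun R hR _ _ α => ?_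
  obtain ⟨j, hj⟩ := exists_pow_mod hS hT hmod hR.1 α.2
  set β := (α : MulAut R) ^ p ^ j with hβ
  have hβR : β ∈ F.autGroup R := (F.autGroup R).pow_mem α.2 _
  have hTc : Nat.card T = p ^ 1 := by rw [pow_one, hTp]
  by_cases hfix : ∀ x : R, (x : Ω) ∈ T → β x = x
  · refine ⟨j + 1, Subtype.ext ?_⟩
    show (α : MulAut R) ^ p ^ (j + 1) = 1
    rw [pow_add p j 1, pow_mul]
    exact pow_eq_one_of_fix hTc hj hfix
  push Not at hfix
  obtain ⟨x₀, hx₀, hx₀ne⟩ := hfix
  have hTR : T ≤ R := by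
    have hd : Nat.card ↥(T ⊓ R) ∣ p := hTp ▸ Subgroup.card_dvd_of_le inf_le_left
    rcases (Nat.dvd_prime hp).1 hd with h | h
    · refine absurd ?_ hx₀ne
      have h1 : x₀ = 1 := Subtype.ext (Subgroup.mem_bot.1
        (Subgroup.card_eq_one.1 h ▸ (⟨hx₀, x₀.2⟩ : (x₀ : Ω) ∈ T ⊓ R)))
      rw [h1, map_one]
    · exact (Subgroup.eq_of_le_of_card_ge inf_le_left (by rw [hTp, h])).ge.trans inf_le_right
  have hβmem : autHom β ∈ F.Hom R := autGroup_hom_mem hR.1 hβR
  obtain ⟨σ, hσT, hσx⟩ := exists_aut_of_hom (restrict_mem hβmem hTR) fun x =>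
    stronglyClosed_map hT hβmem _ x.2
  obtain ⟨i, hi⟩ := hσ σ hσT
  have hpow : ∀ (m : ℕ) (t : T), ((β ^ m) (Subgroup.inclusion hTR t) : Ω) = ((σ ^ m) t : T) := by
    intro m
    induction m with
    | zero => intro t; rfl
    | succ m ih =>
      intro t
      have e : (β ^ m) (Subgroup.inclusion hTR t) = Subgroup.inclusion hTR ((σ ^ m) t) :=
        Subtype.ext (ih t)
      rw [pow_succ' β, MulAut.mul_apply, e, pow_succ' σ, MulAut.mul_apply]
      exact (hσx _).symm
  have hd : ∀ (m : ℕ) (x : R), (x : Ω)⁻¹ * ((β ^ m) x : R) ∈ T := by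
    intro m
    induction m with
    | zero => intro x; simp
    | succ m ih =>
      intro x
      rw [pow_succ' β, MulAut.mul_apply]
      have := T.mul_mem (ih x) (hj ((β ^ m) x))
      simpa [mul_assoc] using this
  refine ⟨j + i + 1, Subtype.ext ?_⟩
  show (α : MulAut R) ^ p ^ (j + i + 1) = 1
  rw [pow_add p (j + i) 1, pow_mul, pow_add p j i, pow_mul]
  refine pow_eq_one_of_fix hTc (hd (p ^ i)) fun x hx => Subtype.ext ?_
  have := hpow (p ^ i) ⟨x, hx⟩
  rw [hi] at this
  exact this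

theorem isInner_of_unique [Finite S] [Fact p.Prime] (hS : IsPGroup p S) (hF : F.IsSaturated p)
    {k : ℕ} (hk : 1 ≤ k) (hkS : p ^ k < Nat.card S) (hW : WEAt F (p ^ k))
    (hL : InnerLocalAt F (p ^ k)) {T : Subgroup Ω} (hT : MinClosed F T)
    (huniq : ∀ R : Subgroup Ω, F.StronglyClosed R → R ≠ ⊥ → T ≤ R) (hmod : InnerMod F T) :
    IsInnerSystem F := by
  have hp := (Fact.out : p.Prime)
  haveI := finite_of_le hT.1.1
  by_cases hTf : T ≤ (frattini ↥S).map S.subtype
  · exact isInner_of_le_frattini hS hF hTf hmod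
  by_cases hTp : Nat.card T = p
  · exact isInner_of_card_prime hS hF hkS hL hT.1 hTp hmod
  exfalso
  obtain ⟨M, hM, hMT⟩ : ∃ M : Subgroup S, IsCoatom M ∧ ¬ T.subgroupOf S ≤ M := by
    by_contra hcon
    push Not at hcon
    refine hTf ?_
    rw [← Subgroup.map_subgroupOf_eq_of_le hT.1.1]
    exact Subgroup.map_mono (le_iInf₂ hcon)
  set N := M.map S.subtype with hNdef
  have hNS : N ≤ S := Subgroup.map_subtype_le M
  have hNof : N.subgroupOf S = M := Subgroup.comap_map_eq_self_of_injective S.subtype_injective M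
  have hNne : N ≠ S := fun h => hM.1 (by rw [← hNof, h, Subgroup.subgroupOf_self])
  obtain ⟨a, ha⟩ := exists_pow_card hS (le_refl S)
  obtain ⟨b, hb⟩ := exists_pow_card hS hNS
  have hba : b < a := by
    rw [← Nat.pow_lt_pow_iff_right hp.one_lt, ← hb, ← ha]
    exact lt_of_le_of_ne (Subgroup.card_le_of_le hNS) fun h =>
      hNne (Subgroup.eq_of_le_of_card_ge hNS h.ge)
  have hb1 : b = a - 1 := by
    by_contra hne
    obtain ⟨U, hNU, hUS, hU⟩ := exists_card_between hS hNS le_rfl (k := a - 1)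
      (hb ▸ Nat.pow_le_pow_right hp.pos (by omega)) (ha ▸ Nat.pow_le_pow_right hp.pos (Nat.sub_le a 1))
    have h1 : M ≤ U.subgroupOf S := hNof ▸ Subgroup.comap_mono hNU
    rcases hM.le_iff.1 h1 with h | h
    · have h2 : S ≤ U := Subgroup.subgroupOf_eq_top.1 h
      rw [le_antisymm hUS h2, ha] at hU
      have := Nat.pow_right_injective hp.two_le hU
      omega
    · have h2 : U = N := by rw [hNdef, ← h, Subgroup.map_subgroupOf_eq_of_le hUS]
      rw [h2, hb] at hU
      exact hne (Nat.pow_right_injective hp.two_le hU)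
  have hka : k < a := by rwa [ha, Nat.pow_lt_pow_iff_right hp.one_lt] at hkS
  obtain ⟨c, hc⟩ := exists_pow_card hS hT.1.1
  have hc2 : 2 ≤ c := by
    rcases Nat.lt_or_ge c 2 with h | h
    · interval_cases c
      · exact absurd (Subgroup.card_eq_one.1 (by simpa using hc)) hT.2.1
      · exact absurd (by simpa using hc) hTp
    · exact h
  have hNT : N ⊓ T ≠ ⊥ := by
    intro h
    have h1 := card_sup_mul hNS hT.1.1 (stronglyClosed_le_normalizer hT.1)
    have h2 : Nat.card ↥(N ⊔ T) ≤ Nat.card S := Subgroup.card_le_of_le (sup_le hNS hT.1.1)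
    rw [h, Subgroup.card_bot, mul_one, hb, hc, ← pow_add] at h1
    rw [h1, ha, Nat.pow_le_pow_iff_right hp.one_lt] at h2
    omega
  haveI : Nontrivial ↥(N ⊓ T : Subgroup Ω) := (Subgroup.nontrivial_iff_ne_bot _).2 hNT
  obtain ⟨y, hy⟩ := exists_ne (1 : ↥(N ⊓ T : Subgroup Ω))
  haveI := finite_of_le (inf_le_left.trans hNS : N ⊓ T ≤ S)
  obtain ⟨e, he0, he⟩ := (IsPGroup.nontrivial_iff_card (hS.to_le (inf_le_left.trans hNS : N ⊓ T ≤ S))).1
    inferInstance
  obtain ⟨w, hw⟩ := exists_prime_orderOf_dvd_card' (G := ↥(N ⊓ T : Subgroup Ω)) p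
    (he ▸ dvd_pow_self p he0.ne')
  have hwo : orderOf (w : Ω) = p := by rw [Subgroup.orderOf_coe, hw]
  obtain ⟨Q, hwQ, hQN, hQ⟩ := exists_card_between hS (Subgroup.zpowers_le.2 w.2.1) hNS (k := k)
    (by rw [Nat.card_zpowers, hwo]; exact Nat.le_self_pow (by omega) p)
    (hb ▸ Nat.pow_le_pow_right hp.pos (by omega))
  rcases inf_eq_bot_or_le hW hT huniq (hQN.trans hNS) hQ with h | h
  · exact hp.ne_one (by
      rw [← hwo, show (w : Ω) = 1 from Subgroup.mem_bot.1
        (h ▸ (⟨hwQ (Subgroup.mem_zpowers _), w.2.2⟩ : (w : Ω) ∈ Q ⊓ T)), orderOf_one])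
  · exact hMT (hNof ▸ Subgroup.comap_mono (h.trans hQN))

/-- The criterion. -/
theorem isInner_of_weAt [Fact p.Prime] {Ω : Type u} [Group Ω] {S : Subgroup Ω} [Finite S]
    (hS : IsPGroup p S) {F : FusionSystem S} (hF : F.IsSaturated p) {k : ℕ} (hk : 1 ≤ k)
    (hkS : p ^ k < Nat.card S) (hW : WEAt F (p ^ k)) (hL : InnerLocalAt F (p ^ k)) :
    IsInnerSystem F := by
  induction hn : Nat.card S using Nat.strong_induction_on generalizing Ω k with
  | _ n ih =>
    have hp := (Fact.out : p.Prime)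
    have hS1 : S ≠ ⊥ := fun h => by
      rw [h, Subgroup.card_bot] at hkS
      exact absurd hkS (not_lt.2 (Nat.one_le_pow _ _ hp.pos))
    obtain ⟨T, -, hT⟩ := exists_minClosed F (stronglyClosed_self F) hS1
    by_cases heq : ∃ T, MinClosed F T ∧ Nat.card T = p ^ k
    · obtain ⟨T, hT, hTk⟩ := heq
      have hnor := isNormal_of_isMulCommutative hS hF hT.1 (isMulCommutative_of_card_eq hS hkS hW hT hTk)
      have hTn : normalizerIn S T = S :=
        le_antisymm inf_le_left (le_inf le_rfl (stronglyClosed_le_normalizer hT.1))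
      obtain ⟨N, hN⟩ := exists_normalizerSystem F hT.1.1
      have hin := hL T (isFullyNormalized_of_normalizerIn_eq hT.1.1 hTn) hTk N hN
      refine isInnerSystem_of_le fun P φ hφ => ?_
      obtain ⟨ψ, hψ, hψe, hψT⟩ := hnor.2 P φ hφ
      have hmem : φ ∈ F.normalizerHom T P :=
        ⟨hφ, hTn.symm ▸ src_le hφ, fun x => hTn.symm ▸ val_mem hφ x, ψ, hψ, hψe, hψT⟩
      rw [← hN, hin] at hmem
      obtain ⟨hP, g, hg, hgx⟩ := hmem
      exact ⟨hP.trans inf_le_left, g, hg.1, hgx⟩
    push Not at heq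
    have hmodAll : ∀ T, MinClosed F T → InnerMod F T := by
      intro T hT
      obtain ⟨c, hc⟩ := exists_pow_card hS hT.1.1
      have hck : c < k := by
        have h1 := card_le_of_minClosed hS hk hW hT
        rw [hc, Nat.pow_le_pow_iff_right hp.one_lt] at h1
        exact lt_of_le_of_ne h1 fun h => heq T hT (by rw [hc, h])
      have hc1 : 1 ≤ c := Nat.one_le_iff_ne_zero.2 fun h =>
        hT.2.1 (Subgroup.card_eq_one.1 (by rw [hc, h, pow_zero]))
      haveI hTn : (T.subgroupOf S).Normal := ⟨fun x hx g => stronglyClosed_conj hT.1 g.2 hx⟩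
      let θ : S →* ↥S ⧸ T.subgroupOf S := QuotientGroup.mk' _
      have hθ : ∀ s : S, θ s = 1 ↔ (s : Ω) ∈ T := fun s => QuotientGroup.eq_one_iff s
      have hrange : θ.range = ⊤ :=
        MonoidHom.range_eq_top_of_surjective θ (QuotientGroup.mk'_surjective _)
      obtain ⟨E, hE⟩ := exists_factorSystem (S' := (⊤ : Subgroup (↥S ⧸ T.subgroupOf S))) θ F hT.1
        hθ hrange
      have hcard : Nat.card S = Nat.card T * Nat.card (⊤ : Subgroup (↥S ⧸ T.subgroupOf S)) := by
        rw [← card_preimageAlong hE le_rfl, ← hrange]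
        congr 2
        ext x
        exact ⟨fun h => (Cfsg.Agent.Lib.FusionFactor.mem_preimageAlong θ).2 ⟨h, ⟨_, rfl⟩⟩,
          fun h => Cfsg.Agent.Lib.FusionFactor.preimageAlong_le θ _ h⟩
      have hin := ih (Nat.card (⊤ : Subgroup (↥S ⧸ T.subgroupOf S))) (by
          rw [← hn, hcard, hc]
          exact lt_mul_left Nat.card_pos (Nat.one_lt_pow (by omega) hp.one_lt))
        ((hS.to_quotient _).to_subgroup ⊤)
        (isSaturated_of_surjectiveMorphism hS hF
          (isSurjectiveMorphism_of_isFactorSystem hS hF hT.1 hE))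
        (k := k - c) (by omega) (by
          have h1 := hkS
          rw [hcard, hc, show p ^ k = p ^ c * p ^ (k - c) by rw [← pow_add]; congr 1; omega] at h1
          exact Nat.lt_of_mul_lt_mul_left h1)
        (weAt_factor hS hF hT.1 hE (by
          rw [hc, ← pow_add, show c + (k - c) = k by omega]; exact hW))
        (innerLocal_factor hS hF hT.1 hE (by
          rw [hc, ← pow_add, show c + (k - c) = k by omega]; exact hL)) rfl
      exact fun R φ hφ => exists_conj_mod hS hF hT.1 hE hin hφ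
    by_cases huniq : ∀ R : Subgroup Ω, F.StronglyClosed R → R ≠ ⊥ → T ≤ R
    · exact isInner_of_unique hS hF hk hkS hW hL hT huniq (hmodAll T hT)
    · push Not at huniq
      obtain ⟨R, hR, hR1, hTR⟩ := huniq
      obtain ⟨T', hT'R, hT'⟩ := exists_minClosed F hR hR1
      refine isInner_of_two hS hF hT.1 hT'.1 ?_ (hmodAll T hT) (hmodAll T' hT')
      rw [inf_comm]
      exact (hT.inf_eq hT'.1).resolve_right fun h => hTR (h.trans hT'R)

end Cfsg.Agent.Lib.WeakEmbedding
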